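import Mathlib.LinearAlgebra.Semisimple
import Mathlib.LinearAlgebra.Charpoly.ToMatrix
import Mathlib.LinearAlgebra.Charpoly.Basic
import Mathlib.RingTheory.UniqueFactorizationDomain.NormalizedFactors
import Mathlib.RingTheory.Polynomial.UniqueFactorization
import Mathlib.Algebra.Polynomial.FieldDivision
import Mathlib.LinearAlgebra.FiniteDimensional.Basic
import Mathlib.LinearAlgebra.Isomorphisms

/-!
The intertwiners of two semisimple endomorphisms over an arbitrary field.
-/

set_option autoImplicit false
set_option backward.isDefEq.respectTransparency false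
noncomputable section

universe u v w

open Polynomial UniqueFactorizationMonoid

namespace SSLinLib

variable {K : Type u} [Field K]

section Simple
variable {V : Type v} [AddCommGroup V] [Module K V] [FiniteDimensional K V]

theorem aeval_apply_comm (f : Module.End K V) (p : K[X]) (x : V) : f (aeval f p x) = aeval f p (f x) := by
  have h : aeval f (Polynomial.X * p) = aeval f (p * Polynomial.X) := by rw [mul_comm]
  simp only [map_mul, aeval_X] at h
  exact LinearMap.congr_fun h x

/-- An endomorphism without proper invariant subspaces. -/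
theorem simple_data [Nontrivial V] (f : Module.End K V)
    (h : ∀ p ∈ f.invtSubmodule, p = ⊥ ∨ p = ⊤) :
    Irreducible f.charpoly ∧ ∃ v : V, ∀ x : V, ∃ q : K[X], x = aeval f q v := by
  obtain ⟨v, hv⟩ := exists_ne (0 : V)
  let ev : K[X] →ₗ[K] V := (LinearMap.applyₗ v).comp (aeval f).toLinearMap
  have hev : ∀ q, ev q = aeval f q v := fun q => rfl
  have hsurj : LinearMap.range ev = ⊤ := by
    refine (h _ ?_).resolve_left (fun hb => hv ?_)
    · rw [Module.End.mem_invtSubmodule]
      rintro _ ⟨q, rfl⟩
      exact ⟨Polynomial.X * q, by simp [hev, Module.End.mul_apply]⟩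
    · have : v ∈ LinearMap.range ev := ⟨1, by simp [hev]⟩
      rwa [hb, Submodule.mem_bot] at this
  have hsurj' : ∀ x, ∃ q, x = aeval f q v := fun x => by
    obtain ⟨q, hq⟩ := (hsurj ▸ Submodule.mem_top : x ∈ LinearMap.range ev)
    exact ⟨q, hq.symm.trans (hev q)⟩
  -- annihilating at `v` means annihilating
  have hann : ∀ q, aeval f q v = 0 → aeval f q = 0 := fun q hq => by
    ext x
    obtain ⟨r, rfl⟩ := hsurj' x
    rw [← Module.End.mul_apply, ← map_mul, mul_comm, map_mul, Module.End.mul_apply, hq, map_zero, LinearMap.zero_apply]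
  refine ⟨?_, v, hsurj'⟩
  set μ := minpoly K f with hμ
  have hμm : μ.Monic := minpoly.monic (Algebra.IsIntegral.isIntegral f)
  -- the charpoly is the minimal polynomial
  have hker : ∀ q : K[X], aeval f q v = 0 → μ ∣ q := fun q hq => minpoly.dvd K f (hann q hq)
  have hdeg : Module.finrank K V ≤ μ.natDegree := by
    haveI : Module.Finite K (Polynomial.degreeLT K μ.natDegree) :=
      Module.Finite.equiv (Polynomial.degreeLTEquiv K μ.natDegree).symm
    have hle : LinearMap.range ev ≤ LinearMap.range (ev.comp (Polynomial.degreeLT K μ.natDegree).subtype) := by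
      rintro _ ⟨q, rfl⟩
      refine ⟨⟨q %ₘ μ, Polynomial.mem_degreeLT.2 ?_⟩, ?_⟩
      · exact lt_of_lt_of_le (Polynomial.degree_modByMonic_lt q hμm) Polynomial.degree_le_natDegree
      · show ev (q %ₘ μ) = ev q
        have e := Polynomial.modByMonic_add_div q μ
        conv_rhs => rw [← e]
        simp [hev, minpoly.aeval, hμ]
    rw [hsurj, top_le_iff] at hle
    have h1 := LinearMap.finrank_range_le (ev.comp (Polynomial.degreeLT K μ.natDegree).subtype)
    rw [hle, finrank_top] at h1
    refine h1.trans (le_of_eq ?_)
    rw [(Polynomial.degreeLTEquiv K μ.natDegree).finrank_eq, Module.finrank_fin_fun]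
  have hcp : μ = f.charpoly :=
    Polynomial.eq_of_monic_of_dvd_of_natDegree_le hμm f.charpoly_monic (LinearMap.minpoly_dvd_charpoly f)
      (by rw [LinearMap.charpoly_natDegree]; exact hdeg) |>.symm
  rw [← hcp]
  constructor
  · intro hu
    rw [hμm.isUnit_iff] at hu
    have := minpoly.aeval K f
    rw [← hμ, hu, map_one] at this
    exact one_ne_zero this
  · intro a b hab
    have ha : a ≠ 0 := fun e => hμm.ne_zero (by rw [hab, e, zero_mul])
    have hb : b ≠ 0 := fun e => hμm.ne_zero (by rw [hab, e, mul_zero])
    by_cases hbv : aeval f b v = 0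
    · left
      obtain ⟨c, hc⟩ := hker b hbv
      have : b * (a * c) = b * 1 := by rw [mul_one, ← mul_assoc, mul_comm b a, ← hab, ← hc]
      exact IsUnit.of_mul_eq_one c (mul_left_cancel₀ hb this)
    · right
      have hinv : LinearMap.ker (aeval f a) ∈ f.invtSubmodule := by
        rw [Module.End.mem_invtSubmodule]
        intro x hx
        simp only [Submodule.mem_comap, LinearMap.mem_ker] at hx ⊢
        rw [← aeval_apply_comm, hx, map_zero]
      have hmem : aeval f b v ∈ LinearMap.ker (aeval f a) := by
        rw [LinearMap.mem_ker, ← Module.End.mul_apply, ← map_mul, ← hab, hμ, minpoly.aeval, LinearMap.zero_apply]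
      have htop := (h _ hinv).resolve_left (fun e => hbv (by rwa [e, Submodule.mem_bot] at hmem))
      obtain ⟨c, hc⟩ := hker a (by
        have : v ∈ LinearMap.ker (aeval f a) := by rw [htop]; exact Submodule.mem_top
        exact this)
      have : a * (b * c) = a * 1 := by rw [mul_one, ← mul_assoc, ← hab, ← hc]
      exact IsUnit.of_mul_eq_one c (mul_left_cancel₀ ha this)

end Simple

/-- Induction for semisimple endomorphisms. -/
theorem ss_induction {P : ∀ (V : Type v) [AddCommGroup V] [Module K V] [FiniteDimensional K V], Module.End K V → Prop}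
    (h0 : ∀ (V : Type v) [AddCommGroup V] [Module K V] [FiniteDimensional K V] (f : Module.End K V),
      Subsingleton V → P V f)
    (h1 : ∀ (V : Type v) [AddCommGroup V] [Module K V] [FiniteDimensional K V] [Nontrivial V] (f : Module.End K V),
      (∀ p ∈ f.invtSubmodule, p = ⊥ ∨ p = ⊤) → P V f)
    (h2 : ∀ (V : Type v) [AddCommGroup V] [Module K V] [FiniteDimensional K V] (f : Module.End K V)
      (p q : Submodule K V) (hp : p ∈ f.invtSubmodule) (hq : q ∈ f.invtSubmodule), IsCompl p q →
      P p (LinearMap.restrict f hp) → P q (LinearMap.restrict f hq) → P V f)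
    (V : Type v) [AddCommGroup V] [Module K V] [FiniteDimensional K V] (f : Module.End K V)
    (hf : f.IsSemisimple) : P V f := by
  suffices H : ∀ (n : ℕ) (V : Type v) [AddCommGroup V] [Module K V] [FiniteDimensional K V] (f : Module.End K V),
      f.IsSemisimple → Module.finrank K V = n → P V f from H _ V f hf rfl
  intro n
  induction n using Nat.strong_induction_on with
  | _ n ih =>
    intro V _ _ _ f hf hn
    rcases subsingleton_or_nontrivial V with hV | hV
    · exact h0 V f hV
    by_cases hs : ∀ p ∈ f.invtSubmodule, p = ⊥ ∨ p = ⊤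
    · exact h1 V f hs
    push Not at hs
    obtain ⟨p, hp, hpb, hpt⟩ := hs
    obtain ⟨q, hq, hpq⟩ := Module.End.isSemisimple_iff.1 hf p hp
    have hadd := Submodule.finrank_add_eq_of_isCompl hpq
    have hp1 : 0 < Module.finrank K p := Nat.pos_of_ne_zero (fun e => hpb (Submodule.finrank_eq_zero.1 e))
    have hp2 : Module.finrank K p < n := hn ▸ Submodule.finrank_lt hpt
    exact h2 V f p q hp hq hpq (ih _ hp2 p _ (hf.restrict hp) rfl)
      (ih _ (by omega) q _ (hf.restrict hq) rfl)

section Split
variable {V : Type v} [AddCommGroup V] [Module K V] [FiniteDimensional K V] (f : Module.End K V)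
  {p q : Submodule K V}

theorem charpoly_split (hp : p ∈ f.invtSubmodule) (hq : q ∈ f.invtSubmodule) (h : IsCompl p q) :
    f.charpoly = (LinearMap.restrict f hp).charpoly * (LinearMap.restrict f hq).charpoly := by
  rw [← LinearMap.charpoly_prodMap]
  conv_lhs => rw [← LinearEquiv.charpoly_conj (Submodule.prodEquivOfIsCompl p q h).symm f]
  congr 1
  apply LinearMap.ext
  intro x
  rw [LinearEquiv.conj_apply_apply, LinearEquiv.symm_symm, LinearEquiv.symm_apply_eq]
  simp [Submodule.coe_prodEquivOfIsCompl', LinearMap.prodMap_apply]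

omit [FiniteDimensional K V] in
theorem coe_aeval_restrict (hp : p ∈ f.invtSubmodule) (P : K[X]) (x : p) :
    ((aeval (LinearMap.restrict f hp) P x : p) : V) = aeval f P x := by
  induction P using Polynomial.induction_on generalizing x with
  | C a => simp [Module.algebraMap_end_apply]
  | add a b ha hb => simp [ha, hb]
  | monomial n a ih =>
    rw [pow_succ, ← mul_assoc, map_mul _ (C a * Polynomial.X ^ n) Polynomial.X,
      map_mul _ (C a * Polynomial.X ^ n) Polynomial.X, Module.End.mul_apply, Module.End.mul_apply, ih]
    simp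

theorem finrank_ker_split (hp : p ∈ f.invtSubmodule) (hq : q ∈ f.invtSubmodule) (h : IsCompl p q) (P : K[X]) :
    Module.finrank K (LinearMap.ker (aeval f P)) =
      Module.finrank K (LinearMap.ker (aeval (LinearMap.restrict f hp) P)) +
      Module.finrank K (LinearMap.ker (aeval (LinearMap.restrict f hq) P)) := by
  rw [← Module.finrank_prod]
  let e := Submodule.prodEquivOfIsCompl p q h
  let ψ : (LinearMap.ker (aeval (LinearMap.restrict f hp) P)) × (LinearMap.ker (aeval (LinearMap.restrict f hq) P))
      →ₗ[K] LinearMap.ker (aeval f P) :=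
    LinearMap.codRestrict _ (e.toLinearMap.comp
      ((LinearMap.ker (aeval (LinearMap.restrict f hp) P)).subtype.prodMap
        (LinearMap.ker (aeval (LinearMap.restrict f hq) P)).subtype)) (fun x => by
      obtain ⟨⟨a, ha⟩, ⟨b, hb⟩⟩ := x
      rw [LinearMap.mem_ker] at ha hb ⊢
      simp [e, Submodule.coe_prodEquivOfIsCompl', map_add, ← coe_aeval_restrict f hp, ← coe_aeval_restrict f hq, ha, hb])
  refine (LinearEquiv.ofBijective ψ ⟨fun x y hxy => ?_, fun z => ?_⟩).finrank_eq.symm
  · have := e.injective (congrArg Subtype.val hxy : _)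
    exact Prod.ext (Subtype.ext (congrArg Prod.fst this)) (Subtype.ext (congrArg Prod.snd this))
  · obtain ⟨z, hz⟩ := z
    obtain ⟨⟨a, b⟩, rfl⟩ := e.surjective z
    rw [LinearMap.mem_ker] at hz
    simp only [e, Submodule.coe_prodEquivOfIsCompl', map_add, ← coe_aeval_restrict f hp, ← coe_aeval_restrict f hq] at hz
    have h0 : (aeval (LinearMap.restrict f hp) P a, aeval (LinearMap.restrict f hq) P b) = (0 : p × q) :=
      e.injective (by simpa [e, Submodule.coe_prodEquivOfIsCompl'] using hz)
    exact ⟨(⟨a, congrArg Prod.fst h0⟩, ⟨b, congrArg Prod.snd h0⟩), rfl⟩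

end Split

theorem count_charpoly_mul [DecidableEq K] {a b : K[X]} (ha : a.Monic) (hb : b.Monic) :
    normalizedFactors (a * b) = normalizedFactors a + normalizedFactors b :=
  normalizedFactors_mul ha.ne_zero hb.ne_zero

/-- The kernel of `P(g)` for semisimple `g` and irreducible monic `P`. -/
theorem finrank_ker_aeval [DecidableEq K] (W : Type w) [AddCommGroup W] [Module K W] [FiniteDimensional K W]
    (g : Module.End K W) (hg : g.IsSemisimple) {P : K[X]} (hP : P.Monic) (hPi : Irreducible P) :
    Module.finrank K (LinearMap.ker (aeval g P)) = (normalizedFactors g.charpoly).count P * P.natDegree := by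
  refine ss_induction (P := fun W _ _ _ g => Module.finrank K (LinearMap.ker (aeval g P)) =
    (normalizedFactors g.charpoly).count P * P.natDegree) ?_ ?_ ?_ W g hg
  · intro V _ _ _ f hV
    have hcp : f.charpoly = 1 := Polynomial.eq_one_of_monic_natDegree_zero f.charpoly_monic
      (by rw [LinearMap.charpoly_natDegree, Module.finrank_zero_of_subsingleton])
    rw [Module.finrank_zero_of_subsingleton, hcp, normalizedFactors_one, Multiset.count_zero, zero_mul]
  · intro V _ _ _ _ f hs
    obtain ⟨hirr, v, hv⟩ := simple_data f hs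
    have hn : normalizedFactors f.charpoly = {f.charpoly} := by
      rw [normalizedFactors_irreducible hirr, f.charpoly_monic.normalize_eq_self]
    rw [hn, Multiset.count_singleton]
    split_ifs with hPc
    · rw [hPc, LinearMap.aeval_self_charpoly, LinearMap.ker_zero, finrank_top, LinearMap.charpoly_natDegree, one_mul]
    · have hcop : IsCoprime P f.charpoly := hPi.coprime_iff_not_dvd.2 (fun hd =>
        hPc (Polynomial.eq_of_monic_of_associated hP f.charpoly_monic (hPi.associated_of_dvd hirr hd)))
      obtain ⟨a, b, hab⟩ := hcop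
      have hker : LinearMap.ker (aeval f P) = ⊥ := by
        rw [Submodule.eq_bot_iff]
        intro x hx
        have := congrArg (fun r => aeval f r x) hab
        simpa [map_add, map_mul, Module.End.mul_apply, LinearMap.aeval_self_charpoly, LinearMap.mem_ker.1 hx] using this.symm
      rw [hker, finrank_bot, zero_mul]
  · intro V _ _ _ f p q hp hq hpq ihp ihq
    rw [finrank_ker_split f hp hq hpq, ihp, ihq, charpoly_split f hp hq hpq,
      count_charpoly_mul (LinearMap.charpoly_monic _) (LinearMap.charpoly_monic _), Multiset.count_add, add_mul]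

variable {V : Type v} [AddCommGroup V] [Module K V] {W : Type w} [AddCommGroup W] [Module K W]

/-- The intertwiners. -/
def inter (f : Module.End K V) (g : Module.End K W) : Submodule K (V →ₗ[K] W) :=
  LinearMap.ker (LinearMap.lcomp K W f - LinearMap.llcomp K V W W g)

theorem mem_inter {f : Module.End K V} {g : Module.End K W} {φ : V →ₗ[K] W} :
    φ ∈ inter f g ↔ ∀ x, φ (f x) = g (φ x) := by
  simp [inter, LinearMap.ext_iff, sub_eq_zero]

theorem inter_aeval {f : Module.End K V} {g : Module.End K W} {φ : V →ₗ[K] W} (h : φ ∈ inter f g)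
    (r : K[X]) (x : V) : φ (aeval f r x) = aeval g r (φ x) := by
  induction r using Polynomial.induction_on generalizing x with
  | C a => simp [Module.algebraMap_end_apply]
  | add a b ha hb => simp [ha, hb]
  | monomial n a ih =>
    rw [pow_succ, ← mul_assoc, map_mul _ (C a * Polynomial.X ^ n) Polynomial.X,
      map_mul _ (C a * Polynomial.X ^ n) Polynomial.X, Module.End.mul_apply, Module.End.mul_apply, ih]
    simp [mem_inter.1 h]

theorem finrank_inter [DecidableEq K] [FiniteDimensional K V] [FiniteDimensional K W] (f : Module.End K V)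
    (g : Module.End K W) (hf : f.IsSemisimple) (hg : g.IsSemisimple) :
    Module.finrank K (inter f g) =
      ((normalizedFactors f.charpoly).map fun P => (normalizedFactors g.charpoly).count P * P.natDegree).sum := by
  refine ss_induction (P := fun V _ _ _ f => Module.finrank K (inter f g) =
    ((normalizedFactors f.charpoly).map fun P => (normalizedFactors g.charpoly).count P * P.natDegree).sum)
    ?_ ?_ ?_ V f hf
  · intro V _ _ _ f hV
    have hcp : f.charpoly = 1 := Polynomial.eq_one_of_monic_natDegree_zero f.charpoly_monic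
      (by rw [LinearMap.charpoly_natDegree, Module.finrank_zero_of_subsingleton])
    rw [hcp, normalizedFactors_one, Multiset.map_zero, Multiset.sum_zero]
    haveI : Subsingleton (inter f g) :=
      ⟨fun a b => Subtype.ext (LinearMap.ext fun x => by rw [Subsingleton.elim x 0, map_zero, map_zero])⟩
    exact Module.finrank_zero_of_subsingleton
  · intro V _ _ _ _ f hs
    obtain ⟨hirr, v, hv⟩ := simple_data f hs
    have hn : normalizedFactors f.charpoly = {f.charpoly} := by
      rw [normalizedFactors_irreducible hirr, f.charpoly_monic.normalize_eq_self]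
    rw [hn, Multiset.map_singleton, Multiset.sum_singleton, ← finrank_ker_aeval W g hg f.charpoly_monic hirr]
    let ψ : inter f g →ₗ[K] LinearMap.ker (aeval g f.charpoly) :=
      LinearMap.codRestrict _ ((LinearMap.applyₗ v).comp (inter f g).subtype) (fun φ => by
        show aeval g f.charpoly ((φ : V →ₗ[K] W) v) = 0
        rw [← inter_aeval φ.2, LinearMap.aeval_self_charpoly, LinearMap.zero_apply, map_zero])
    refine (LinearEquiv.ofBijective ψ ⟨fun φ χ h => ?_, fun u => ?_⟩).finrank_eq
    · refine Subtype.ext (LinearMap.ext fun x => ?_)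
      obtain ⟨r, rfl⟩ := hv x
      rw [inter_aeval φ.2, inter_aeval χ.2]
      exact congrArg _ (congrArg Subtype.val h : (φ : V →ₗ[K] W) v = (χ : V →ₗ[K] W) v)
    · let ev : K[X] →ₗ[K] V := (LinearMap.applyₗ v).comp (aeval f).toLinearMap
      let eu : K[X] →ₗ[K] W := (LinearMap.applyₗ (u : W)).comp (aeval g).toLinearMap
      have hle : LinearMap.ker ev ≤ LinearMap.ker eu := fun r hr => by
        have hr' : aeval f r v = 0 := hr
        have hann : aeval f r = 0 := LinearMap.ext fun x => by
          obtain ⟨s, rfl⟩ := hv x
          rw [← Module.End.mul_apply, ← map_mul, mul_comm, map_mul, Module.End.mul_apply, hr', map_zero,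
            LinearMap.zero_apply]
        have hm : minpoly K f = f.charpoly := by
          refine (minpoly.eq_of_irreducible_of_monic hirr (LinearMap.aeval_self_charpoly f) f.charpoly_monic).symm
        obtain ⟨c, rfl⟩ := hm ▸ minpoly.dvd K f hann
        show aeval g (f.charpoly * c) (u : W) = 0
        rw [mul_comm, map_mul, Module.End.mul_apply, LinearMap.mem_ker.1 u.2, map_zero]
      have hev : LinearMap.range ev = ⊤ := LinearMap.range_eq_top.2 (fun x => (hv x).imp fun _ h => h.symm)
      let φ : V →ₗ[K] W := (Submodule.liftQ _ eu hle).comp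
        (LinearMap.quotKerEquivOfSurjective ev (LinearMap.range_eq_top.1 hev)).symm.toLinearMap
      have hφ : ∀ r, φ (aeval f r v) = aeval g r (u : W) := fun r => by
        have he : (LinearMap.quotKerEquivOfSurjective ev (LinearMap.range_eq_top.1 hev)).symm (aeval f r v) =
            Submodule.Quotient.mk r := by
          rw [LinearEquiv.symm_apply_eq]; rfl
        show Submodule.liftQ _ eu hle _ = _
        rw [LinearEquiv.coe_coe, he]
        rfl
      refine ⟨⟨φ, mem_inter.2 fun x => ?_⟩, Subtype.ext ?_⟩
      · obtain ⟨r, rfl⟩ := hv x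
        rw [hφ, show f (aeval f r v) = aeval f (Polynomial.X * r) v by simp, hφ]
        simp
      · show φ v = u
        simpa using hφ 1
  · intro V _ _ _ f p q hp hq hpq ihp ihq
    rw [charpoly_split f hp hq hpq, count_charpoly_mul (LinearMap.charpoly_monic _) (LinearMap.charpoly_monic _),
      Multiset.map_add, Multiset.sum_add, ← ihp, ← ihq, ← Module.finrank_prod]
    let e := Submodule.prodEquivOfIsCompl p q hpq
    have h1 : ∀ x : p, f x = (LinearMap.restrict f hp x : V) := fun x => rfl
    have h2 : ∀ x : q, f x = (LinearMap.restrict f hq x : V) := fun x => rfl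
    let ψ : inter f g →ₗ[K] inter (LinearMap.restrict f hp) g × inter (LinearMap.restrict f hq) g :=
      LinearMap.prod
        (LinearMap.codRestrict _ ((LinearMap.lcomp K W p.subtype).comp (inter f g).subtype)
          (fun φ => mem_inter.2 fun x => mem_inter.1 φ.2 (x : V)))
        (LinearMap.codRestrict _ ((LinearMap.lcomp K W q.subtype).comp (inter f g).subtype)
          (fun φ => mem_inter.2 fun x => mem_inter.1 φ.2 (x : V)))
    refine (LinearEquiv.ofBijective ψ ⟨fun φ χ h => ?_, fun ab => ?_⟩).finrank_eq
    · refine Subtype.ext (LinearMap.ext fun x => ?_)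
      obtain ⟨⟨a, b⟩, rfl⟩ := e.surjective x
      simp only [e, Submodule.coe_prodEquivOfIsCompl', map_add]
      exact congrArg₂ (· + ·) (LinearMap.congr_fun (congrArg (fun z => (z.1 : p →ₗ[K] W)) h) a)
        (LinearMap.congr_fun (congrArg (fun z => (z.2 : q →ₗ[K] W)) h) b)
    · let φ := LinearMap.ofIsCompl hpq (ab.1 : p →ₗ[K] W) (ab.2 : q →ₗ[K] W)
      have hφ : φ ∈ inter f g := by
        refine mem_inter.2 fun x => ?_
        obtain ⟨⟨a, b⟩, rfl⟩ := e.surjective x
        simp only [e, Submodule.coe_prodEquivOfIsCompl', map_add, h1, h2, φ, LinearMap.ofIsCompl_left_apply,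
          LinearMap.ofIsCompl_right_apply, mem_inter.1 ab.1.2, mem_inter.1 ab.2.2]
      refine ⟨⟨φ, hφ⟩, Prod.ext (Subtype.ext (LinearMap.ext fun a => ?_)) (Subtype.ext (LinearMap.ext fun b => ?_))⟩
      · exact LinearMap.ofIsCompl_left_apply hpq a
      · exact LinearMap.ofIsCompl_right_apply hpq b

end SSLinLib
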